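import Cfsg.Agent.UnipSp.Count

/-!
# Unipotent isometries of an alternating form: `q ^ (2 m²)` of them
-/

set_option autoImplicit false
set_option linter.unusedSectionVars false
set_option linter.style.haveILetI false

namespace CfsgLib.UnipSp

open Finset

theorem card_fix.{uF, uV} {F : Type uF} [Field F] [Finite F] : ∀ (m : ℕ) {V : Type uV} [AddCommGroup V]
    [Module F V] [FiniteDimensional F V] [Finite V] {B : V →ₗ[F] V →ₗ[F] F}, IsSympForm B →
    Module.finrank F V = 2 * m → ∀ k, ∀ w ∈ TI B (1 : Module.End F V) k,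
      Nat.card {L // L ∈ Uni B ∧ ∀ i, L (w i) = w i} = Nat.card F ^ expo m k := by
  classical
  intro m
  induction m using Nat.strong_induction_on with
  | _ m ih =>
    intro V _ _ _ _ B hB hm
    have pos : ∀ k, ∀ w ∈ TI B (1 : Module.End F V) (k + 1),
        Nat.card {L // L ∈ Uni B ∧ ∀ i, L (w i) = w i} = Nat.card F ^ expo m (k + 1) := by
      intro k w hw
      have := TI_le hB hm hw
      obtain ⟨m', rfl⟩ : ∃ m', m = m' + 1 := ⟨m - 1, by omega⟩
      exact card_fix_succ hB hm hw fun V' hB' hm' x hx => ih m' (Nat.lt_succ_self m') hB' hm' k x hx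
    intro k w hw
    cases k with
    | succ k => exact pos k w hw
    | zero =>
      set q : ℚ := (Nat.card F : ℚ) with hqd
      have hq : 1 < q := by rw [hqd]; exact_mod_cast Finite.one_lt_card
      haveI : Fintype (Uni B) := Fintype.ofFinite _
      let c : ℕ → ℚ := fun j => (-1) ^ j * q ^ j.choose 2 / gl q j
      have hsum : ∑ L : Uni B, wsum B L.1 m = ∑ j ∈ range (m + 1), (-1) ^ j * q ^ j.choose 2 * N q m j := by
        have h1 : (1 : Module.End F V) ∈ Uni B := ⟨fun x y => rfl, 0 + 1, by simp⟩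
        rw [Fintype.sum_eq_single (⟨1, h1⟩ : Uni B) fun L hL => wsum_eq_zero hB hm L.2
          fun e => hL (Subtype.ext e)]
        refine sum_congr rfl fun j hj => ?_
        rw [card_TI hB hm j (by have := mem_range.1 hj; omega), N, ← mul_div_assoc]
      have hswap : ∀ j, ∑ L : Uni B, (Nat.card (TI B L.1 j) : ℚ) =
          ((Nat.card (Σ w : TI B (1 : Module.End F V) j, {L // L ∈ Uni B ∧ ∀ i, L (w.1 i) = w.1 i}) : ℕ) : ℚ) := by
        intro j
        rw [← Nat.cast_sum, ← Nat.card_sigma]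
        refine congrArg Nat.cast (Nat.card_congr
          { toFun := fun p => ⟨⟨p.2.1, p.2.2.1, p.2.2.2.1, fun i => rfl⟩, ⟨p.1.1, p.1.2, p.2.2.2.2⟩⟩
            invFun := fun p => ⟨⟨p.2.1, p.2.2.1⟩, ⟨p.1.1, p.1.2.1, p.1.2.2.1, p.2.2.2⟩⟩
            left_inv := fun _ => rfl
            right_inv := fun _ => rfl })
      have hterm : ∀ j ∈ range m, c (j + 1) * ∑ L : Uni B, (Nat.card (TI B L.1 (j + 1)) : ℚ) =
          (-1) ^ (j + 1) * q ^ ((m - (j + 1)) ^ 2 + m ^ 2) * N q m (j + 1) := by
        intro j hj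
        have hj' := mem_range.1 hj
        haveI := Fintype.ofFinite (TI B (1 : Module.End F V) (j + 1))
        rw [hswap, Nat.card_sigma, sum_congr rfl fun w _ => pos j w.1 w.2, sum_const, card_univ,
          smul_eq_mul, ← Nat.card_eq_fintype_card, Nat.cast_mul, card_TI hB hm (j + 1) (by omega),
          Nat.cast_pow, ← hqd, ← expo_eq m (j + 1) (by omega)]
        simp only [c, N, pow_add]
        ring
      have e : ∑ L : Uni B, wsum B L.1 m = ∑ j ∈ range (m + 1), c j * ∑ L : Uni B, (Nat.card (TI B L.1 j) : ℚ) := by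
        simp only [wsum, mul_sum, c, hqd]
        rw [sum_comm]
        exact sum_congr rfl fun j _ => sum_congr rfl fun L _ => by ring
      have h0 : c 0 * ∑ L : Uni B, (Nat.card (TI B L.1 0) : ℚ) = (Nat.card (Uni B) : ℚ) := by
        have : ∀ L : Uni B, Nat.card (TI B L.1 0) = 1 := fun L => by
          haveI : Subsingleton (TI B L.1 0) := ⟨fun a b => Subtype.ext (funext fun i => i.elim0)⟩
          exact Nat.card_of_subsingleton
            ⟨fun i => i.elim0, linearIndependent_empty_type, fun i => i.elim0, fun i => i.elim0⟩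
        rw [sum_congr rfl fun L _ => congrArg (Nat.cast : ℕ → ℚ) (this L), sum_const, card_univ, ← Nat.card_eq_fintype_card, Nat.cast_one, nsmul_one]
        simp [c, gl]
      rw [hsum, sum_A q hq m, ← sum_B q hq m, sum_range_succ', sum_range_succ' (fun j => c j * _),
        sum_congr rfl hterm, h0] at e
      have hN : N q m 0 = 1 := by simp [N, T, gl]
      rw [hN] at e
      have e2 : (Nat.card (Uni B) : ℚ) = q ^ (2 * m ^ 2) := by
        rw [Nat.sub_zero, pow_zero, one_mul, mul_one, ← two_mul] at e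
        linarith
      have e3 : Nat.card (Uni B) = Nat.card F ^ (2 * m ^ 2) := by rw [hqd] at e2; exact_mod_cast e2
      rw [show expo m 0 = 2 * m ^ 2 by cases m <;> rfl, ← e3]
      exact Nat.card_congr (Equiv.subtypeEquivRight fun L => ⟨fun h => h.1, fun h => ⟨h, fun i => i.elim0⟩⟩)

theorem card_uni {F : Type*} [Field F] [Finite F] {V : Type*} [AddCommGroup V] [Module F V]
    [FiniteDimensional F V] [Finite V] {B : V →ₗ[F] V →ₗ[F] F} (hB : IsSympForm B) {m : ℕ}
    (hm : Module.finrank F V = 2 * m) : Nat.card (Uni B) = Nat.card F ^ (2 * m ^ 2) := by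
  rw [← show expo m 0 = 2 * m ^ 2 by cases m <;> rfl,
    ← card_fix m hB hm 0 (fun i => i.elim0) ⟨linearIndependent_empty_type, fun i => i.elim0, fun i => i.elim0⟩]
  exact Nat.card_congr (Equiv.subtypeEquivRight fun L => ⟨fun h => ⟨h, fun i => i.elim0⟩, fun h => h.1⟩)

open Matrix in
theorem card_symplectic {F : Type*} [Field F] [Fintype F] (p : ℕ) [Fact p.Prime] [CharP F p] (m : ℕ) :
    Nat.card {g : ↥(Matrix.symplecticGroup (Fin m) F) // ∃ k : ℕ, orderOf g = p ^ k} =
      Fintype.card F ^ (2 * m ^ 2) := by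
  classical
  rcases Nat.eq_zero_or_pos m with rfl | hm
  · haveI : Subsingleton ↥(Matrix.symplecticGroup (Fin 0) F) :=
      ⟨fun a b => Subtype.ext (Matrix.ext fun i => Sum.elim Fin.elim0 Fin.elim0 i)⟩
    haveI : Subsingleton {g : ↥(Matrix.symplecticGroup (Fin 0) F) // ∃ k : ℕ, orderOf g = p ^ k} :=
      inferInstance
    rw [Nat.card_of_subsingleton ⟨1, 0, by simp⟩]
    simp
  haveI : Nonempty (Fin m) := ⟨⟨0, hm⟩⟩
  let J := Matrix.J (Fin m) F
  let B : (Fin m ⊕ Fin m → F) →ₗ[F] (Fin m ⊕ Fin m → F) →ₗ[F] F := Matrix.toLinearMap₂' F J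
  have hBapp : ∀ x y, B x y = x ⬝ᵥ (J *ᵥ y) := fun x y => Matrix.toLinearMap₂'_apply' J x y
  have halt : ∀ x, B x x = 0 := fun x => by
    rw [hBapp]
    simp only [J, Matrix.J, Matrix.fromBlocks_mulVec, dotProduct, Fintype.sum_sum_type, Sum.elim_inl,
      Sum.elim_inr, Matrix.zero_mulVec, zero_add, add_zero, Matrix.neg_mulVec, Matrix.one_mulVec,
      Pi.neg_apply, Function.comp_apply, mul_neg, Finset.sum_neg_distrib]
    rw [← Finset.sum_neg_distrib, ← Finset.sum_add_distrib]
    exact Finset.sum_eq_zero fun i _ => by ring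
  have hB : IsSympForm B := by
    refine ⟨halt, fun x hx => ?_⟩
    funext i
    obtain ⟨z, hz⟩ : ∃ z, J *ᵥ z = Pi.single i 1 :=
      ⟨(-J) *ᵥ Pi.single i 1, by
        rw [Matrix.mulVec_mulVec, Matrix.mul_neg, Matrix.J_squared, neg_neg, Matrix.one_mulVec]⟩
    have := hx z
    rw [hBapp, hz, dotProduct_single, mul_one] at this
    exact this
  have hfr : Module.finrank F (Fin m ⊕ Fin m → F) = 2 * m := by simp; ring
  rw [← Nat.card_eq_fintype_card, ← card_uni hB hfr]
  let E : Matrix (Fin m ⊕ Fin m) (Fin m ⊕ Fin m) F ≃ₐ[F] Module.End F (Fin m ⊕ Fin m → F) :=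
    Matrix.toLinAlgEquiv'
  have hE : ∀ A x, E A x = A *ᵥ x := fun A x => Matrix.toLinAlgEquiv'_apply A x
  have hpres : ∀ A, (∀ x y, B (E A x) (E A y) = B x y) ↔ A ∈ Matrix.symplecticGroup (Fin m) F := by
    intro A
    rw [SymplecticGroup.mem_iff']
    have key : ∀ x y, B (E A x) (E A y) = Matrix.toLinearMap₂' F (Aᵀ * J * A) x y := fun x y => by
      rw [hBapp, hE, hE, Matrix.toLinearMap₂'_apply', ← Matrix.mulVec_mulVec, ← Matrix.mulVec_mulVec,
        Matrix.dotProduct_mulVec x Aᵀ, Matrix.vecMul_transpose]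
    constructor
    · intro h
      exact (Matrix.toLinearMap₂' F).injective (LinearMap.ext fun x => LinearMap.ext fun y =>
        (key x y).symm.trans (h x y))
    · intro h x y
      rw [key, h]
  have hord : ∀ g : ↥(Matrix.symplecticGroup (Fin m) F),
      (∃ k : ℕ, orderOf g = p ^ k) ↔ IsNilpotent (E g.1 - 1) := by
    intro g
    have e : ∀ k, g ^ p ^ k = 1 ↔ (E g.1 - 1) ^ p ^ k = 0 := fun k => by
      rw [show E g.1 - 1 = E (g.1 - 1) by rw [map_sub, map_one], ← map_pow, map_eq_zero_iff _ E.injective,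
        sub_pow_char_pow_of_commute _ _ (Commute.one_right g.1), one_pow, sub_eq_zero, Subtype.ext_iff,
        SubmonoidClass.coe_pow, OneMemClass.coe_one]
    constructor
    · rintro ⟨k, hk⟩
      exact ⟨p ^ k, (e k).1 (hk ▸ pow_orderOf_eq_one g)⟩
    · rintro ⟨n, hn⟩
      have := (e n).2 (pow_eq_zero_of_le (Nat.lt_pow_self (Fact.out : p.Prime).one_lt).le hn)
      obtain ⟨k, -, hk⟩ := (Nat.dvd_prime_pow Fact.out).1 (orderOf_dvd_of_pow_eq_one this)
      exact ⟨k, hk⟩
  refine Nat.card_congr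
    { toFun := fun g => ⟨E g.1.1, (hpres _).2 g.1.2, (hord g.1).1 g.2⟩
      invFun := fun L => ⟨⟨E.symm L.1, (hpres _).1 (fun x y => by rw [E.apply_symm_apply]; exact L.2.1 x y)⟩,
        (hord _).2 (by rw [E.apply_symm_apply]; exact L.2.2)⟩
      left_inv := fun g => Subtype.ext (Subtype.ext (E.symm_apply_apply _))
      right_inv := fun L => Subtype.ext (E.apply_symm_apply _) }

end CfsgLib.UnipSp
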