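import Mathlib

/-!
# The number of unipotent isometries of an alternating form

An inductive proof through weighted sums over tuples spanning totally isotropic subspaces: for a
non-trivial unipotent isometry the sum over tuples of fixed vectors vanishes.
-/

set_option autoImplicit false
set_option linter.unusedSectionVars false
set_option linter.style.haveILetI false

namespace CfsgLib.UnipSp

open Finset

/-! ### The numeric identities -/

section Numeric

variable (q : ℚ)

/-- The number of isotropic tuples. -/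
def T (m k : ℕ) : ℚ := ∏ i ∈ range k, (q ^ (2 * m - i) - q ^ i)

/-- The order of `GL_k`. -/
def gl : ℕ → ℚ
  | 0 => 1
  | k + 1 => q ^ k * (q ^ (k + 1) - 1) * gl k

/-- The number of totally isotropic subspaces. -/
def N (m k : ℕ) : ℚ := T q m k / gl q k

theorem T_succ_succ (m k : ℕ) (hk : k ≤ 2 * m + 1) :
    T q (m + 1) (k + 1) = (q ^ (2 * (m + 1)) - 1) * q ^ k * T q m k := by
  rw [T, prod_range_succ', T]
  have : ∀ i ∈ range k, q ^ (2 * (m + 1) - (i + 1)) - q ^ (i + 1) = q * (q ^ (2 * m - i) - q ^ i) := by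
    intro i hi
    have := mem_range.1 hi
    rw [show 2 * (m + 1) - (i + 1) = (2 * m - i) + 1 by omega, pow_succ, pow_succ]
    ring
  rw [prod_congr rfl this, prod_mul_distrib, prod_const, card_range, Nat.sub_zero, pow_zero]
  ring

theorem gl_ne_zero (hq : 1 < q) : ∀ k, gl q k ≠ 0
  | 0 => one_ne_zero
  | k + 1 => mul_ne_zero (mul_ne_zero (pow_ne_zero k (by linarith))
      (sub_ne_zero.2 (one_lt_pow₀ hq (Nat.succ_ne_zero k)).ne')) (gl_ne_zero hq k)

theorem N_last (m : ℕ) : N q m (m + 1) = 0 := by
  rw [N, T, prod_range_succ, show 2 * m - m = m by omega, sub_self, mul_zero, zero_div]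

theorem N_succ (hq : 1 < q) (m k : ℕ) (hk : k ≤ m) :
    N q (m + 1) (k + 1) = q ^ (k + 1) * N q m (k + 1) + (1 + q ^ (2 * m + 1 - k)) * N q m k := by
  have h1 := gl_ne_zero q hq k
  have h2 := gl_ne_zero q hq (k + 1)
  rw [N, N, N, T_succ_succ q m k (by omega), show T q m (k + 1) = T q m k * (q ^ (2 * m - k) - q ^ k) from
    prod_range_succ _ _]
  rw [gl] at h2 ⊢
  obtain ⟨r, hr⟩ := Nat.exists_eq_add_of_le hk
  subst hr
  rw [show 2 * (k + r) - k = k + (r + r) by omega, show 2 * (k + r) + 1 - k = k + (r + r) + 1 by omega,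
    show 2 * (k + r + 1) = k + k + (r + r) + 2 by omega]
  rw [mul_comm] at h2
  obtain ⟨-, h3⟩ := mul_ne_zero_iff.1 h2
  obtain ⟨h4, h5⟩ := mul_ne_zero_iff.1 h3
  field_simp
  ring

theorem sum_step (hq : 1 < q) (m : ℕ) (c : ℕ → ℚ) :
    ∑ k ∈ range (m + 2), c k * N q (m + 1) k =
      ∑ j ∈ range (m + 1), (c j * q ^ j + c (j + 1) * (1 + q ^ (2 * m + 1 - j))) * N q m j := by
  rw [sum_range_succ']
  have e : ∀ j ∈ range (m + 1), c (j + 1) * N q (m + 1) (j + 1) =
      c (j + 1) * q ^ (j + 1) * N q m (j + 1) + c (j + 1) * (1 + q ^ (2 * m + 1 - j)) * N q m j := by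
    intro j hj
    rw [N_succ q hq m j (by have := mem_range.1 hj; omega)]
    ring
  rw [sum_congr rfl e, sum_add_distrib]
  have e2 : ∑ j ∈ range (m + 1), c j * q ^ j * N q m j =
      (∑ j ∈ range (m + 1), c (j + 1) * q ^ (j + 1) * N q m (j + 1)) + c 0 * N q (m + 1) 0 := by
    have h0 : N q (m + 1) 0 = N q m 0 := by simp [N, T]
    have := sum_range_succ' (fun j => c j * q ^ j * N q m j) (m + 1)
    rw [sum_range_succ, N_last, mul_zero, add_zero] at this
    rw [this, h0, pow_zero, mul_one]
  simp only [add_mul, sum_add_distrib]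
  rw [e2]
  simp only [mul_assoc]
  ring

theorem sum_A (hq : 1 < q) : ∀ m, ∑ k ∈ range (m + 1), (-1) ^ k * q ^ k.choose 2 * N q m k =
    (-1) ^ m * q ^ (m * m)
  | 0 => by simp [N, T, gl]
  | m + 1 => by
    rw [sum_step q hq m fun k => (-1) ^ k * q ^ k.choose 2]
    have : ∀ j ∈ range (m + 1), ((-1) ^ j * q ^ j.choose 2 * q ^ j +
        (-1) ^ (j + 1) * q ^ (j + 1).choose 2 * (1 + q ^ (2 * m + 1 - j))) * N q m j =
        -q ^ (2 * m + 1) * ((-1) ^ j * q ^ j.choose 2 * N q m j) := by
      intro j hj
      have hj' := mem_range.1 hj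
      rw [Nat.choose_succ_succ' j 1, Nat.choose_one_right,
        show q ^ (2 * m + 1) = q ^ (2 * m + 1 - j) * q ^ j by rw [← pow_add]; congr 1; omega]
      ring
    rw [sum_congr rfl this, ← mul_sum, sum_A hq m]
    ring

theorem sum_B (hq : 1 < q) : ∀ m, ∑ k ∈ range (m + 1), (-1) ^ k * q ^ ((m - k) ^ 2 + m ^ 2) * N q m k =
    (-1) ^ m * q ^ (m * m)
  | 0 => by simp [N, T, gl]
  | m + 1 => by
    rw [sum_step q hq m fun k => (-1) ^ k * q ^ ((m + 1 - k) ^ 2 + (m + 1) ^ 2)]
    have : ∀ j ∈ range (m + 1), ((-1) ^ j * q ^ ((m + 1 - j) ^ 2 + (m + 1) ^ 2) * q ^ j +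
        (-1) ^ (j + 1) * q ^ ((m + 1 - (j + 1)) ^ 2 + (m + 1) ^ 2) * (1 + q ^ (2 * m + 1 - j))) * N q m j =
        -q ^ (2 * m + 1) * ((-1) ^ j * q ^ ((m - j) ^ 2 + m ^ 2) * N q m j) := by
      intro j hj
      obtain ⟨r, rfl⟩ := Nat.exists_eq_add_of_le (show j ≤ m by have := mem_range.1 hj; omega)
      rw [show j + r + 1 - j = r + 1 by omega, show j + r + 1 - (j + 1) = r by omega,
        show j + r - j = r by omega, show 2 * (j + r) + 1 - j = j + (r + r) + 1 by omega]
      ring
    rw [sum_congr rfl this, ← mul_sum, sum_B hq m]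
    ring

end Numeric

/-! ### Forms -/

variable {F : Type*} [Field F] [Finite F] {V : Type*} [AddCommGroup V] [Module F V]
  [FiniteDimensional F V] [Finite V]

/-- An alternating non-degenerate form. -/
structure IsSympForm (B : V →ₗ[F] V →ₗ[F] F) : Prop where
  alt : ∀ x, B x x = 0
  nondeg : ∀ x, (∀ y, B x y = 0) → x = 0

/-- The unipotent isometries. -/
def Uni (B : V →ₗ[F] V →ₗ[F] F) : Set (Module.End F V) :=
  {L | (∀ x y, B (L x) (L y) = B x y) ∧ IsNilpotent (L - 1)}

/-- Isotropic independent tuples of vectors fixed by a map. -/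
def TI (B : V →ₗ[F] V →ₗ[F] F) (L : Module.End F V) (k : ℕ) : Set (Fin k → V) :=
  {w | LinearIndependent F w ∧ (∀ i j, B (w i) (w j) = 0) ∧ ∀ i, L (w i) = w i}

/-- The exponent of the count of unipotent isometries fixing a tuple. -/
def expo : ℕ → ℕ → ℕ
  | m, 0 => 2 * m ^ 2
  | 0, _ + 1 => 0
  | m + 1, k + 1 => (2 * m - k + 1) + expo m k

theorem expo_eq : ∀ m k, k ≤ m → expo m k + k.choose 2 = (m - k) ^ 2 + m ^ 2
  | m, 0, _ => by cases m <;> simp [expo] <;> ring
  | 0, k + 1, h => absurd h (by omega)
  | m + 1, k + 1, h => by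
    have := expo_eq m k (by omega)
    obtain ⟨r, rfl⟩ := Nat.exists_eq_add_of_le (show k ≤ m by omega)
    rw [expo, Nat.choose_succ_succ' k 1, Nat.choose_one_right,
      show k + r + 1 - (k + 1) = r by omega]
    rw [show k + r - k = r by omega] at this
    have h2 : 2 * (k + r) - k + 1 = k + 2 * r + 1 := by omega
    rw [h2]
    linarith [show (k + r + 1) ^ 2 = (k + r) ^ 2 + 2 * k + 2 * r + 1 by ring]

instance : Finite (Module.End F V) :=
  Finite.of_injective (fun L : Module.End F V => (L : V → V)) DFunLike.coe_injective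

variable {B : V →ₗ[F] V →ₗ[F] F} (hB : IsSympForm B)
include hB

theorem flip (x y : V) : B y x = - B x y := by
  have e := hB.alt (x + y)
  simp only [map_add, LinearMap.add_apply, hB.alt] at e
  linear_combination e

/-- The orthogonal of an independent tuple. -/
theorem card_perp {k : ℕ} {w : Fin k → V} (hw : LinearIndependent F w) :
    Nat.card {x : V // ∀ i, B (w i) x = 0} * Nat.card F ^ k = Nat.card F ^ Module.finrank F V := by
  let Φ : V →ₗ[F] (Fin k → F) := LinearMap.pi fun i => B (w i)
  have hs : LinearMap.range Φ = ⊤ := by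
    by_contra hne
    obtain ⟨φ, hφ, hle⟩ := Submodule.exists_le_ker_of_lt_top _ (lt_top_iff_ne_top.2 hne)
    refine hφ ((Pi.basisFun F (Fin k)).ext fun i => ?_)
    have hc : ∑ j, φ (Pi.single j 1) • w j = 0 := by
      refine hB.nondeg _ fun y => ?_
      have hy : φ (Φ y) = 0 := hle ⟨y, rfl⟩
      rw [pi_eq_sum_univ (Φ y), map_sum] at hy
      simp only [map_smul, smul_eq_mul] at hy
      rw [map_sum, LinearMap.sum_apply]
      refine (sum_congr rfl fun j _ => ?_).trans hy
      rw [show (fun j' => if j = j' then (1 : F) else 0) = Pi.single j 1 by funext j'; simp [Pi.single_apply, eq_comm]]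
      simp [Φ, mul_comm]
    simpa using Fintype.linearIndependent_iff.1 hw _ hc i
  have e := LinearMap.finrank_range_add_finrank_ker Φ
  rw [hs, finrank_top, Module.finrank_fin_fun] at e
  have hk : Nat.card {x : V // ∀ i, B (w i) x = 0} = Nat.card (LinearMap.ker Φ) :=
    Nat.card_congr (Equiv.subtypeEquivRight fun x => by simp [Φ, funext_iff])
  rw [hk, Module.natCard_eq_pow_finrank (K := F), ← pow_add]
  congr 1
  omega

theorem card_TI_succ (k : ℕ) :
    Nat.card (TI B (1 : Module.End F V) (k + 1)) * Nat.card F ^ k +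
      Nat.card (TI B (1 : Module.End F V) k) * Nat.card F ^ k * Nat.card F ^ k =
    Nat.card (TI B (1 : Module.End F V) k) * Nat.card F ^ Module.finrank F V := by
  classical
  haveI := Fintype.ofFinite V
  let X : TI B (1 : Module.End F V) k → Type _ := fun w =>
    {x : V // (∀ i, B (w.1 i) x = 0) ∧ x ∉ Submodule.span F (Set.range w.1)}
  let e : TI B (1 : Module.End F V) (k + 1) ≃ Σ w : TI B (1 : Module.End F V) k, X w :=
    { toFun := fun w => ⟨⟨Fin.init w.1, (linearIndependent_fin_succ'.1 w.2.1).1,
        fun i j => w.2.2.1 _ _, fun i => rfl⟩,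
        ⟨w.1 (Fin.last k), fun i => w.2.2.1 _ _, (linearIndependent_fin_succ'.1 w.2.1).2⟩⟩
      invFun := fun p => ⟨Fin.snoc p.1.1 p.2.1, linearIndependent_fin_snoc.2 ⟨p.1.2.1, p.2.2.2⟩,
        fun i j => by
          refine Fin.lastCases ?_ (fun i => ?_) i <;> refine Fin.lastCases ?_ (fun j => ?_) j <;>
            simp only [Fin.snoc_last, Fin.snoc_castSucc]
          · exact hB.alt _
          · rw [flip hB, p.2.2.1 j, neg_zero]
          · exact p.2.2.1 i
          · exact p.1.2.2.1 i j,
        fun i => rfl⟩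
      left_inv := fun w => Subtype.ext (Fin.snoc_init_self w.1)
      right_inv := fun p => by
        obtain ⟨⟨w, hw⟩, x, hx⟩ := p
        refine Sigma.subtype_ext (Subtype.ext ?_) ?_
        · exact Fin.init_snoc (α := fun _ => V) x w
        simp }
  rw [Nat.card_congr e, Nat.card_sigma, sum_mul]
  have hX : ∀ w : TI B (1 : Module.End F V) k, Nat.card (X w) * Nat.card F ^ k +
      Nat.card F ^ k * Nat.card F ^ k = Nat.card F ^ Module.finrank F V := by
    intro w
    rw [← card_perp hB w.2.1, ← add_mul]
    congr 1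
    have hspan : ∀ x ∈ Submodule.span F (Set.range w.1), ∀ i, B (w.1 i) x = 0 := by
      intro x hx i
      induction hx using Submodule.span_induction with
      | mem x hx => obtain ⟨j, rfl⟩ := hx; exact w.2.2.1 i j
      | zero => simp
      | add x y _ _ hx hy => simp [hx, hy]
      | smul c x _ hx => simp [hx]
    have hsp : Nat.card (Submodule.span F (Set.range w.1)) = Nat.card F ^ k := by
      rw [Module.natCard_eq_pow_finrank (K := F), finrank_span_eq_card w.2.1, Fintype.card_fin]
    rw [← hsp, ← Nat.card_sum]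
    refine Nat.card_congr
      { toFun := Sum.elim (fun x => ⟨x.1, x.2.1⟩) fun x => ⟨x.1, hspan x.1 x.2⟩
        invFun := fun x => if h : x.1 ∈ Submodule.span F (Set.range w.1) then Sum.inr ⟨x.1, h⟩
          else Sum.inl ⟨x.1, x.2, h⟩
        left_inv := by
          rintro (⟨x, hx, hx'⟩ | ⟨x, hx⟩)
          · simp [hx']
          · simp [hx]
        right_inv := fun x => by
          by_cases h : x.1 ∈ Submodule.span F (Set.range w.1) <;> simp [h] }
  calc _ = ∑ w : TI B (1 : Module.End F V) k,
        (Nat.card (X w) * Nat.card F ^ k + Nat.card F ^ k * Nat.card F ^ k) := by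
        rw [sum_add_distrib, sum_const, card_univ, smul_eq_mul, ← Nat.card_eq_fintype_card, mul_assoc]
    _ = _ := by
        rw [sum_congr rfl fun w _ => hX w, sum_const, card_univ, smul_eq_mul,
          ← Nat.card_eq_fintype_card]

theorem card_TI {m : ℕ} (hm : Module.finrank F V = 2 * m) : ∀ k, k ≤ m + 1 →
    (Nat.card (TI B (1 : Module.End F V) k) : ℚ) = T (Nat.card F) m k
  | 0, _ => by
    haveI : Subsingleton (TI B (1 : Module.End F V) 0) := ⟨fun a b => Subtype.ext (funext fun i => i.elim0)⟩
    haveI : Nonempty (TI B (1 : Module.End F V) 0) :=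
      ⟨⟨fun i => i.elim0, linearIndependent_empty_type, fun i => i.elim0, fun i => i.elim0⟩⟩
    rw [Nat.card_of_subsingleton (Classical.arbitrary _), T, range_zero, prod_empty, Nat.cast_one]
  | k + 1, hk => by
    have e := congrArg (Nat.cast : ℕ → ℚ) (card_TI_succ hB k)
    push_cast at e
    rw [card_TI hm k (by omega), hm] at e
    have hq : ((Nat.card F : ℚ)) ^ k ≠ 0 := pow_ne_zero _ (by exact_mod_cast Nat.card_pos.ne')
    rw [show T (Nat.card F : ℚ) m (k + 1) = T (Nat.card F) m k * ((Nat.card F : ℚ) ^ (2 * m - k) -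
      (Nat.card F : ℚ) ^ k) from prod_range_succ _ _]
    refine mul_right_cancel₀ hq ?_
    rw [show (Nat.card F : ℚ) ^ (2 * m) = (Nat.card F : ℚ) ^ (2 * m - k) * (Nat.card F : ℚ) ^ k by
      rw [← pow_add]; congr 1; omega] at e
    linear_combination e

theorem TI_le {m k : ℕ} (hm : Module.finrank F V = 2 * m) {L : Module.End F V} {w : Fin k → V}
    (hw : w ∈ TI B L k) : k ≤ m := by
  by_contra hk
  push Not at hk
  have h1 : (fun i => w (Fin.castLE hk i)) ∈ TI B (1 : Module.End F V) (m + 1) :=
    ⟨hw.1.comp _ (Fin.castLE_injective _), fun i j => hw.2.1 _ _, fun i => rfl⟩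
  have h2 := card_TI hB hm (m + 1) le_rfl
  rw [T, prod_range_succ, show 2 * m - m = m by omega, sub_self, mul_zero, Nat.cast_eq_zero,
    Nat.card_eq_zero] at h2
  rcases h2 with h2 | h2
  · exact h2.elim ⟨_, h1⟩
  · exact h2.not_finite inferInstance

/-- A non-trivial unipotent isometry fixes a non-zero vector orthogonal to all fixed vectors. -/
theorem exists_rad {L : Module.End F V} (hL : L ∈ Uni B) (h1 : L ≠ 1) :
    ∃ l, l ≠ 0 ∧ L l = l ∧ ∀ x, L x = x → B x l = 0 := by
  obtain ⟨n, hn⟩ := hL.2
  obtain ⟨z, hz⟩ : ∃ z, (L - 1) z ≠ 0 := by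
    by_contra hc
    push Not at hc
    exact h1 (sub_eq_zero.1 (LinearMap.ext fun z => by simpa using hc z))
  have key : ∀ n z, (((L - 1) ^ n : Module.End F V)) z = 0 → (L - 1) z ≠ 0 →
      ∃ y, (L - 1) y ≠ 0 ∧ (L - 1) ((L - 1) y) = 0 := by
    intro n
    induction n with
    | zero => intro z e hz; simp at e; simp [e] at hz
    | succ n ih =>
      intro z e hz
      rw [pow_succ, Module.End.mul_apply] at e
      by_cases h : (L - 1) ((L - 1) z) = 0
      · exact ⟨z, hz, h⟩
      · exact ih _ e h
  obtain ⟨y, hy, hy'⟩ := key n z (by rw [hn]; rfl) hz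
  refine ⟨(L - 1) y, hy, ?_, fun x hx => ?_⟩
  · rw [LinearMap.sub_apply L 1 ((L - 1) y), Module.End.one_apply, sub_eq_zero] at hy'
    exact hy'
  · rw [LinearMap.sub_apply, Module.End.one_apply, map_sub]
    conv_lhs => arg 1; rw [← hx]
    rw [hL.1, sub_self]

/-- Pairing the tuples according to the span of a radical vector. -/
theorem card_TI_fix {L : Module.End F V} {l : V} (hl : l ≠ 0) (hfix : L l = l)
    (hrad : ∀ x, L x = x → B x l = 0) (k : ℕ) :
    Nat.card {w : TI B L (k + 1) // l ∈ Submodule.span F (Set.range w.1)} =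
      (Nat.card F ^ (k + 1) - 1) * Nat.card {w : TI B L k // l ∉ Submodule.span F (Set.range w.1)} := by
  classical
  haveI := Fintype.ofFinite F
  let C := {c : Fin (k + 1) → F // c ≠ 0}
  let A : C → Type _ := fun c => {w : TI B L (k + 1) // Fintype.linearCombination F w.1 c.1 = l}
  have hmem : ∀ (w : TI B L (k + 1)) (c : Fin (k + 1) → F), Fintype.linearCombination F w.1 c = l →
      l ∈ Submodule.span F (Set.range w.1) := fun w c e => by
    rw [← e, Fintype.linearCombination_apply]
    exact Submodule.sum_mem _ fun i _ => Submodule.smul_mem _ _ (Submodule.subset_span ⟨i, rfl⟩)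
  have e1 : Nat.card {w : TI B L (k + 1) // l ∈ Submodule.span F (Set.range w.1)} =
      Nat.card (Σ c : C, A c) := by
    refine (Nat.card_eq_of_bijective (fun p : Σ c : C, A c => (⟨p.2.1, hmem p.2.1 _ p.2.2⟩ :
      {w : TI B L (k + 1) // l ∈ Submodule.span F (Set.range w.1)})) ⟨?_, ?_⟩).symm
    · rintro ⟨c, w, hw⟩ ⟨c', w', hw'⟩ e
      simp only [Subtype.mk.injEq] at e
      subst e
      obtain rfl : c = c' := Subtype.ext
        ((linearIndependent_iff_injective_fintypeLinearCombination.1 w.2.1) (hw.trans hw'.symm))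
      rfl
    · rintro ⟨w, hw⟩
      obtain ⟨c, hc⟩ := (Submodule.mem_span_range_iff_exists_fun F).1 hw
      rw [← Fintype.linearCombination_apply] at hc
      exact ⟨⟨⟨c, fun e => hl (by rw [← hc, e, map_zero])⟩, w, hc⟩, rfl⟩
  have e2 : ∀ c : C, Nat.card (A c) =
      Nat.card {w : TI B L k // l ∉ Submodule.span F (Set.range w.1)} := by
    intro c
    obtain ⟨j, hj⟩ := Function.ne_iff.1 c.2
    let e₀ : (Fin (k + 1) → F) →ₗ[F] (Fin (k + 1) → F) :=
      { toFun := fun x i => x 0 * c.1 i + if i = j then 0 else x (Equiv.swap 0 j i)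
        map_add' := fun x y => by funext i; simp only [Pi.add_apply]; split_ifs <;> ring
        map_smul' := fun a x => by
          funext i; simp only [Pi.smul_apply, smul_eq_mul, RingHom.id_apply]; split_ifs <;> ring }
    have he₀ : Function.Injective e₀ := by
      rw [← LinearMap.ker_eq_bot, LinearMap.ker_eq_bot']
      intro x hx
      have h0 : x 0 = 0 := by
        have hj' : c.1 j ≠ 0 := hj
        simpa [e₀, hj'] using congrFun hx j
      funext i
      by_cases hi : i = 0
      · rw [hi]; exact h0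
      have hne : Equiv.swap 0 j i ≠ j := fun e => hi (by
        rw [← Equiv.swap_apply_self 0 j i, e, Equiv.swap_apply_right])
      simpa [e₀, h0, hne] using congrFun hx (Equiv.swap 0 j i)
    let e := LinearEquiv.ofInjectiveEndo e₀ he₀
    have hec : e (Pi.single 0 1) = c.1 := by
      funext i
      show (Pi.single 0 (1 : F) : Fin (k + 1) → F) 0 * c.1 i +
        (if i = j then 0 else (Pi.single 0 (1 : F) : Fin (k + 1) → F) (Equiv.swap 0 j i)) = c.1 i
      split_ifs with h
      · simp
      · have : Equiv.swap 0 j i ≠ 0 := fun e => h (by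
          rw [← Equiv.swap_apply_self 0 j i, e, Equiv.swap_apply_left])
        simp [Pi.single_eq_of_ne this]
    have tr : ∀ (f : (Fin (k + 1) → F) ≃ₗ[F] (Fin (k + 1) → F)) (w : Fin (k + 1) → V), w ∈ TI B L (k + 1) →
        (fun i => Fintype.linearCombination F w (f (Pi.single i 1))) ∈ TI B L (k + 1) ∧
        Fintype.linearCombination F (fun i => Fintype.linearCombination F w (f (Pi.single i 1))) =
          (Fintype.linearCombination F w).comp f.toLinearMap := by
      intro f w hw
      have ecomp : Fintype.linearCombination F (fun i => Fintype.linearCombination F w (f (Pi.single i 1))) =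
          (Fintype.linearCombination F w).comp f.toLinearMap := by
        refine (Pi.basisFun F _).ext fun i => ?_
        simp [Fintype.linearCombination_apply_single]
      refine ⟨⟨?_, fun i i' => ?_, fun i => ?_⟩, ecomp⟩
      · rw [linearIndependent_iff_injective_fintypeLinearCombination, ecomp]
        exact (linearIndependent_iff_injective_fintypeLinearCombination.1 hw.1).comp f.injective
      · simp [Fintype.linearCombination_apply, map_sum, LinearMap.sum_apply, hw.2.1]
      · simp [Fintype.linearCombination_apply, map_sum, hw.2.2]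
    let first := {w : TI B L (k + 1) // w.1 0 = l}
    have ec : A c ≃ first :=
      { toFun := fun w => ⟨⟨_, (tr e w.1.1 w.1.2).1⟩, by
          show Fintype.linearCombination F w.1.1 (e (Pi.single 0 1)) = l
          rw [hec]; exact w.2⟩
        invFun := fun w => ⟨⟨_, (tr e.symm w.1.1 w.1.2).1⟩, by
          rw [(tr e.symm w.1.1 w.1.2).2, LinearMap.comp_apply, LinearEquiv.coe_coe, ← hec,
            e.symm_apply_apply, Fintype.linearCombination_apply_single, one_smul]
          exact w.2⟩
        left_inv := fun w => Subtype.ext (Subtype.ext (funext fun i => by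
          show Fintype.linearCombination F _ (e.symm (Pi.single i 1)) = _
          rw [(tr e w.1.1 w.1.2).2, LinearMap.comp_apply, LinearEquiv.coe_coe, e.apply_symm_apply,
            Fintype.linearCombination_apply_single, one_smul]))
        right_inv := fun w => Subtype.ext (Subtype.ext (funext fun i => by
          show Fintype.linearCombination F _ (e (Pi.single i 1)) = _
          rw [(tr e.symm w.1.1 w.1.2).2, LinearMap.comp_apply, LinearEquiv.coe_coe, e.symm_apply_apply,
            Fintype.linearCombination_apply_single, one_smul])) }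
    refine Nat.card_congr (ec.trans
      { toFun := fun w => ⟨⟨Fin.tail w.1.1, (linearIndependent_fin_succ.1 w.1.2.1).1,
          fun i i' => w.1.2.2.1 _ _, fun i => w.1.2.2.2 _⟩, by
            have hh := (linearIndependent_fin_succ.1 w.1.2.1).2
            rw [w.2] at hh
            exact hh⟩
        invFun := fun w => ⟨⟨Fin.cons l w.1.1, linearIndependent_fin_cons.2 ⟨w.1.2.1, w.2⟩,
          fun i i' => by
            refine Fin.cases ?_ (fun i => ?_) i <;> refine Fin.cases ?_ (fun i' => ?_) i' <;>
              simp only [Fin.cons_zero, Fin.cons_succ]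
            · exact hB.alt _
            · rw [flip hB, hrad _ (w.1.2.2.2 i'), neg_zero]
            · exact hrad _ (w.1.2.2.2 i)
            · exact w.1.2.2.1 i i',
          fun i => by
            refine Fin.cases ?_ (fun i => ?_) i <;> simp only [Fin.cons_zero, Fin.cons_succ]
            · exact hfix
            · exact w.1.2.2.2 i⟩, Fin.cons_zero (α := fun _ => V) l w.1.1⟩
        left_inv := fun w => Subtype.ext (Subtype.ext (by
          show Fin.cons l (Fin.tail w.1.1) = w.1.1
          conv_rhs => rw [← Fin.cons_self_tail w.1.1, w.2]))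
        right_inv := fun w => Subtype.ext (Subtype.ext (Fin.tail_cons (α := fun _ => V) l w.1.1)) })
  rw [e1, Nat.card_sigma, sum_congr rfl fun c _ => e2 c, sum_const, card_univ, smul_eq_mul,
    ← Nat.card_eq_fintype_card]
  congr 1
  rw [Nat.card_eq_fintype_card, Fintype.card_subtype_compl, Fintype.card_subtype_eq,
    Fintype.card_fun, Fintype.card_fin, ← Nat.card_eq_fintype_card]

omit hB

/-- The weighted sum over tuples. -/
noncomputable def wsum (B : V →ₗ[F] V →ₗ[F] F) (L : Module.End F V) (m : ℕ) : ℚ :=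
  ∑ k ∈ range (m + 1), (-1) ^ k * (Nat.card F : ℚ) ^ k.choose 2 *
    (Nat.card (TI B L k) : ℚ) / gl (Nat.card F : ℚ) k

include hB

theorem wsum_eq_zero {m : ℕ} (hm : Module.finrank F V = 2 * m) {L : Module.End F V} (hL : L ∈ Uni B)
    (h1 : L ≠ 1) : wsum B L m = 0 := by
  classical
  obtain ⟨l, hl, hfix, hrad⟩ := exists_rad hB hL h1
  set q : ℚ := (Nat.card F : ℚ) with hqd
  have hq : 1 < q := by rw [hqd]; exact_mod_cast Finite.one_lt_card
  set a : ℕ → ℚ := fun k => (Nat.card {w : TI B L k // l ∈ Submodule.span F (Set.range w.1)} : ℚ)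
  set b : ℕ → ℚ := fun k => (Nat.card {w : TI B L k // l ∉ Submodule.span F (Set.range w.1)} : ℚ)
  have hsplit : ∀ k, (Nat.card (TI B L k) : ℚ) = a k + b k := fun k => by
    simp only [a, b]
    rw [← Nat.cast_add, ← Nat.card_sum]
    exact congrArg Nat.cast (Nat.card_congr (Equiv.sumCompl _).symm)
  have hab : ∀ k, a (k + 1) = (q ^ (k + 1) - 1) * b k := fun k => by
    simp only [a, b, card_TI_fix hB hl hfix hrad k, Nat.cast_mul, hqd]
    rw [Nat.cast_sub (Nat.one_le_pow _ _ Nat.card_pos)]
    push_cast
    rfl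
  have hbm : b m = 0 := by
    have e : a (m + 1) = 0 := by
      simp only [a, Nat.cast_eq_zero, Nat.card_eq_zero]
      exact Or.inl ⟨fun w => absurd (TI_le hB hm w.1.2) (by omega)⟩
    rw [hab] at e
    exact (mul_eq_zero.1 e).resolve_left (sub_ne_zero.2 (one_lt_pow₀ hq (Nat.succ_ne_zero m)).ne')
  have ha0 : a 0 = 0 := by
    simp only [a, Nat.cast_eq_zero, Nat.card_eq_zero]
    exact Or.inl ⟨fun w => hl (by simpa [Set.range_eq_empty] using w.2)⟩
  set c : ℕ → ℚ := fun k => (-1) ^ k * q ^ k.choose 2 / gl q k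
  have hc : ∀ k, c (k + 1) * a (k + 1) = - (c k * b k) := by
    intro k
    have h3 := gl_ne_zero q hq k
    have h4 : q ^ k ≠ 0 := pow_ne_zero _ (by linarith)
    have h5 : q ^ (k + 1) - 1 ≠ 0 := sub_ne_zero.2 (one_lt_pow₀ hq (Nat.succ_ne_zero k)).ne'
    simp only [c, hab, gl, Nat.choose_succ_succ' k 1, Nat.choose_one_right]
    field_simp
    ring
  have : wsum B L m = ∑ k ∈ range (m + 1), (c k * a k + c k * b k) := sum_congr rfl fun k _ => by
    rw [hsplit]; simp only [c]; ring
  rw [this, sum_add_distrib, sum_range_succ', ha0, mul_zero, add_zero, sum_congr rfl fun k _ => hc k,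
    sum_neg_distrib, sum_range_succ (fun k => c k * b k), hbm, mul_zero, add_zero, neg_add_cancel]

/-- A unipotent map of the space in coordinates of a hyperbolic plane and its orthogonal. -/
theorem exists_frame {m : ℕ} (hm : Module.finrank F V = 2 * (m + 1)) {v : V} (hv : v ≠ 0) :
    ∃ (w : V) (V' : Submodule F V), B v w = 1 ∧ (∀ x, x ∈ V' ↔ B v x = 0 ∧ B w x = 0) ∧
      IsSympForm (B.compl₁₂ V'.subtype V'.subtype) ∧ Module.finrank F V' = 2 * m := by
  obtain ⟨w₀, hw₀⟩ : ∃ w, B v w ≠ 0 := by
    by_contra hc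
    push Not at hc
    exact hv (hB.nondeg v hc)
  set w := (B v w₀)⁻¹ • w₀ with hwd
  have hvw : B v w = 1 := by rw [hwd, map_smul, smul_eq_mul, inv_mul_cancel₀ hw₀]
  have hwv : B w v = -1 := by rw [flip hB, hvw]
  set V' := LinearMap.ker (B v) ⊓ LinearMap.ker (B w)
  have hmem : ∀ x, x ∈ V' ↔ B v x = 0 ∧ B w x = 0 := fun x => Iff.rfl
  refine ⟨w, V', hvw, hmem, ⟨fun x => hB.alt _, fun x hx => ?_⟩, ?_⟩
  · refine Subtype.ext (hB.nondeg _ fun y => ?_)
    have := hx ⟨y - B v y • w + B w y • v, by
      rw [hmem]; simp [hvw, hwv, hB.alt]⟩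
    have h1 : B x.1 v = 0 := by rw [flip hB, (hmem _).1 x.2 |>.1, neg_zero]
    have h2 : B x.1 w = 0 := by rw [flip hB, (hmem _).1 x.2 |>.2, neg_zero]
    simpa [h1, h2] using this
  · let e : V ≃ₗ[F] (F × F) × V' :=
      { toFun := fun y => ((B v y, B w y), ⟨y - B v y • w + B w y • v, by
          rw [hmem]; simp [hvw, hwv, hB.alt]⟩)
        map_add' := fun x y => by
          refine Prod.ext (by simp) (Subtype.ext ?_)
          simp only [map_add, Prod.snd_add, Submodule.coe_add]
          module
        map_smul' := fun a x => by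
          refine Prod.ext (by simp) (Subtype.ext ?_)
          simp only [map_smul, RingHom.id_apply, Prod.smul_snd, Submodule.coe_smul, smul_eq_mul]
          module
        invFun := fun p => p.2.1 + p.1.1 • w - p.1.2 • v
        left_inv := fun y => by simp; module
        right_inv := fun p => by
          obtain ⟨h1, h2⟩ := (hmem _).1 p.2.2
          refine Prod.ext (Prod.ext ?_ ?_) (Subtype.ext ?_) <;>
            simp [h1, h2, hvw, hwv, hB.alt] <;> module }
    have := e.finrank_eq
    rw [Module.finrank_prod, Module.finrank_prod, Module.finrank_self, hm] at this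
    omega

omit hB

/-- The count fixing a tuple, given the counts in two dimensions less. -/
theorem card_fix_succ {m k : ℕ} (hB : IsSympForm B) (hm : Module.finrank F V = 2 * (m + 1))
    {w : Fin (k + 1) → V} (hw : w ∈ TI B 1 (k + 1))
    (IH : ∀ (V' : Submodule F V), IsSympForm (B.compl₁₂ V'.subtype V'.subtype) →
      Module.finrank F V' = 2 * m → ∀ x : Fin k → V', x ∈ TI (B.compl₁₂ V'.subtype V'.subtype) 1 k →
        Nat.card {h // h ∈ Uni (B.compl₁₂ V'.subtype V'.subtype) ∧ ∀ i, h (x i) = x i} =
          Nat.card F ^ expo m k) :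
    Nat.card {L // L ∈ Uni B ∧ ∀ i, L (w i) = w i} = Nat.card F ^ expo (m + 1) (k + 1) := by
  classical
  set v := w 0 with hv
  have hv0 : v ≠ 0 := hw.1.ne_zero 0
  obtain ⟨u, V', hvu, hmem, hB', hm'⟩ := exists_frame hB hm hv0
  set B' := B.compl₁₂ V'.subtype V'.subtype
  have huv : B u v = -1 := by rw [flip hB, hvu]
  have hV1 : ∀ x : V', B v x = 0 := fun x => ((hmem _).1 x.2).1
  have hV2 : ∀ x : V', B u x = 0 := fun x => ((hmem _).1 x.2).2
  have hV1' : ∀ x : V', B x v = 0 := fun x => by rw [flip hB, hV1, neg_zero]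
  have hV2' : ∀ x : V', B x u = 0 := fun x => by rw [flip hB, hV2, neg_zero]
  let P : V →ₗ[F] V' :=
    { toFun := fun y => ⟨y - B v y • u + B u y • v, by rw [hmem]; simp [hvu, huv, hB.alt]⟩
      map_add' := fun x y => Subtype.ext (by simp only [map_add, Submodule.coe_add]; module)
      map_smul' := fun a x => Subtype.ext (by
        simp only [map_smul, RingHom.id_apply, Submodule.coe_smul, smul_eq_mul]; module) }
  have hPc : ∀ y, (P y).1 = y - B v y • u + B u y • v := fun y => rfl
  have hPd : ∀ y, y = (P y).1 + B v y • u - B u y • v := fun y => by rw [hPc]; module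
  have hP0 : ∀ x : V', P x.1 = x := fun x => Subtype.ext (by rw [hPc, hV1, hV2]; simp)
  have hPv : P v = 0 := Subtype.ext (by rw [hPc, hB.alt, huv]; simp)
  let mk : V' → F → Module.End F V' → Module.End F V := fun a c h =>
    { toFun := fun y => (h (P y)).1 + B v y • (u + a.1 + c • v) + (- B u y + B a (h (P y))) • v
      map_add' := fun x y => by
        simp only [map_add, Submodule.coe_add]; module
      map_smul' := fun r x => by
        simp only [map_smul, RingHom.id_apply, Submodule.coe_smul, smul_eq_mul]; module }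
  have hmk : ∀ a c h y, mk a c h y =
      (h (P y)).1 + B v y • (u + a.1 + c • v) + (- B u y + B a (h (P y))) • v := fun a c h y => rfl
  -- the nilpotency is that of the middle part
  have nil : ∀ (L : Module.End F V) (h : Module.End F V'), L v = v → (∀ y, B v (L y) = B v y) →
      (∀ x : V', P (L x) = h x) → (IsNilpotent (L - 1) ↔ IsNilpotent (h - 1)) := by
    intro L h hLv hLb hLh
    have h1 : ∀ y, B v ((L - 1) y) = 0 := fun y => by simp [hLb]
    have h2 : ∀ y, B v y = 0 → P ((L - 1) y) = (h - 1) (P y) := fun y hy => by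
      rw [LinearMap.sub_apply, LinearMap.sub_apply, Module.End.one_apply, Module.End.one_apply, map_sub]
      congr 1
      conv_lhs => rw [hPd y, hy, zero_smul, add_zero, map_sub, map_smul, hLv, map_sub, map_smul, hPv,
        smul_zero, sub_zero, hLh]
    have h3 : ∀ n y, B v y = 0 → B v (((L - 1) ^ n : Module.End F V) y) = 0 ∧
        P (((L - 1) ^ n : Module.End F V) y) = ((h - 1) ^ n : Module.End F V') (P y) := by
      intro n
      induction n with
      | zero => intro y hy; exact ⟨by simpa using hy, by simp⟩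
      | succ n ih =>
        intro y hy
        obtain ⟨i1, i2⟩ := ih y hy
        rw [pow_succ', pow_succ', Module.End.mul_apply, Module.End.mul_apply]
        exact ⟨h1 _, by rw [h2 _ i1, i2]⟩
    constructor
    · rintro ⟨n, hn⟩
      refine ⟨n, LinearMap.ext fun x => ?_⟩
      have := (h3 n x.1 (hV1 x)).2
      rw [hn, hP0] at this
      simpa using this.symm
    · rintro ⟨n, hn⟩
      refine ⟨n + 2, LinearMap.ext fun y => ?_⟩
      obtain ⟨i1, i2⟩ := h3 n _ (h1 y)
      rw [hn, LinearMap.zero_apply] at i2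
      rw [pow_succ', Module.End.mul_apply, pow_succ, Module.End.mul_apply, LinearMap.zero_apply,
        LinearMap.sub_apply, Module.End.one_apply]
      set z := ((L - 1) ^ n : Module.End F V) ((L - 1) y)
      rw [hPd z, i2, i1]
      simp [hLv]
  -- the fixed tuples
  let x : Fin k → V' := fun i => P (w i.succ)
  have hwv : ∀ i : Fin (k + 1), B v (w i) = 0 := fun i => hw.2.1 _ _
  have hx : x ∈ TI B' 1 k := by
    refine ⟨?_, fun i j => ?_, fun i => rfl⟩
    · rw [Fintype.linearIndependent_iff]
      intro c hc i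
      have hc' : (∑ i, c i • w i.succ) = - (∑ i, c i * B u (w i.succ)) • v := by
        have := congrArg Subtype.val hc
        simp only [x, Submodule.coe_sum, Submodule.coe_smul, hPc, hwv, zero_smul, sub_zero, smul_add,
          smul_smul, sum_add_distrib, ← sum_smul, Submodule.coe_zero] at this
        rw [neg_smul]
        exact eq_neg_of_add_eq_zero_left this
      have h0 : ∑ j, (Fin.cons (∑ i, c i * B u (w i.succ)) c : Fin (k + 1) → F) j • w j = 0 := by
        rw [Fin.sum_univ_succ]
        simp only [Fin.cons_zero, Fin.cons_succ, hc', neg_smul, ← hv, add_neg_cancel]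
      simpa using Fintype.linearIndependent_iff.1 hw.1 _ h0 i.succ
    · show B (x i).1 (x j).1 = 0
      simp [x, hPc, hwv, hw.2.1, hB.alt, flip hB v (w i.succ)]
  have hLb : ∀ L : Module.End F V, L ∈ Uni B → L v = v → ∀ y, B v (L y) = B v y := fun L hL hLv y => by
    conv_lhs => arg 1; rw [← hLv]
    exact hL.1 v y
  let S := {L // L ∈ Uni B ∧ ∀ i, L (w i) = w i}
  let R := {a : V' // ∀ i, B' (x i) a = 0} × F × {h // h ∈ Uni B' ∧ ∀ i, h (x i) = x i}
  have mk_mem : ∀ (a : V') (c : F) (h : Module.End F V'), (∀ i, B' (x i) a = 0) →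
      h ∈ Uni B' → (∀ i, h (x i) = x i) → mk a c h ∈ Uni B ∧ ∀ i, mk a c h (w i) = w i := by
    intro a c h ha hh hhx
    have hpres : ∀ y z, B (h y).1 (h z).1 = B y.1 z.1 := fun y z => hh.1 y z
    have hLv : mk a c h v = v := by rw [hmk, hPv, map_zero, hB.alt, huv]; simp
    refine ⟨⟨fun y z => ?_, ?_⟩, fun i => ?_⟩
    · conv_rhs => rw [hPd y, hPd z]
      simp only [hmk, map_add, map_sub, map_smul, LinearMap.add_apply, LinearMap.sub_apply,
        LinearMap.smul_apply, smul_eq_mul, hB.alt, hvu, huv, hV1, hV2, hV1', hV2', hpres]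
      rw [flip hB a.1 (h (P y)).1]
      ring
    · refine (nil (mk a c h) h hLv (fun y => ?_) fun y => ?_).2 hh.2
      · simp [hmk, hvu, hV1, hB.alt]
      · rw [hmk, hP0, hV1, hV2]
        refine Subtype.ext ?_
        simp [hPc, hV1, hV2, hB.alt, huv]
    · refine Fin.cases hLv (fun i => ?_) i
      have e : B a.1 (x i).1 = 0 := by
        rw [flip hB]; exact neg_eq_zero.2 (ha i)
      rw [hmk, hwv, show P (w i.succ) = x i from rfl, hhx, e, add_zero]
      conv_rhs => rw [hPd (w i.succ), hwv]
      simp only [x]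
      module
  let f : R → S := fun p => ⟨mk p.1.1 p.2.1 p.2.2.1, mk_mem _ _ _ p.1.2 p.2.2.2.1 p.2.2.2.2⟩
  have hf : Function.Bijective f := by
    constructor
    · rintro ⟨⟨a, ha⟩, c, ⟨h, hh⟩⟩ ⟨⟨a', ha'⟩, c', ⟨h', hh'⟩⟩ e
      have e' : mk a c h = mk a' c' h' := congrArg Subtype.val e
      have eu := congrArg (fun L : Module.End F V => L u) e'
      have hPu : P u = 0 := Subtype.ext (by rw [hPc, hvu, hB.alt]; simp)
      simp only [hmk, hPu, map_zero, hvu, hB.alt, Submodule.coe_zero] at eu
      have ea : a = a' := by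
        have := congrArg P eu
        simpa [hPv, hPu, hP0] using this
      subst ea
      have ec : c = c' := by
        have := congrArg (B u) eu
        simpa [huv, hB.alt, hV2] using this
      subst ec
      have eh : h = h' := LinearMap.ext fun y => by
        have := congrArg (fun L : Module.End F V => P (L y.1)) e'
        simpa [hmk, hP0, hV1, hPv] using this
      subst eh
      rfl
    · rintro ⟨L, hL, hfix⟩
      have hLv : L v = v := hfix 0
      have hb := hLb L hL hLv
      let h : Module.End F V' := P.comp (L.comp V'.subtype)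
      have hh : ∀ y : V', h y = P (L y.1) := fun y => rfl
      set a := P (L u)
      have hLx : ∀ y : V', L y.1 = (h y).1 - B u (L y.1) • v := fun y => by
        rw [hh]; conv_lhs => rw [hPd (L y.1), hb, hV1, zero_smul, add_zero]
      have hpres : ∀ y z : V', B' (h y) (h z) = B' y z := by
        intro y z
        have e := hL.1 y.1 z.1
        rw [hLx y, hLx z] at e
        simpa [hV1, hV1', hB.alt, B'] using e
      have hlam : ∀ y : V', B a.1 (h y).1 = - B u (L y.1) := by
        intro y
        have e := hL.1 u y.1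
        rw [hV2, hPd (L u), hb, hvu, one_smul, hLx y] at e
        simp [hV1', hV2, hB.alt, huv, hV1] at e
        linear_combination e
      have hax : ∀ i, B' (x i) a = 0 := fun i => by
        have e := hlam (x i)
        have ex : L (x i).1 = (x i).1 := by
          simp only [x, hPc, hwv, zero_smul, sub_zero, map_add, map_smul, hfix i.succ, hLv]
        rw [hh, ex, hP0, hV2, neg_zero] at e
        show B (x i).1 a.1 = 0
        rw [flip hB, e, neg_zero]
      have hhx : ∀ i, h (x i) = x i := fun i => by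
        rw [hh, show L (x i).1 = (x i).1 by
          simp only [x, hPc, hwv, zero_smul, sub_zero, map_add, map_smul, hfix i.succ, hLv], hP0]
      refine ⟨⟨⟨a, hax⟩, - B u (L u), ⟨h, ⟨hpres, (nil L h hLv hb fun y => rfl).1 hL.2⟩, hhx⟩⟩,
        Subtype.ext (LinearMap.ext fun y => ?_)⟩
      show mk a (- B u (L u)) h y = L y
      conv_rhs => rw [hPd y, map_sub, map_add, map_smul, map_smul, hLv, hLx, hPd (L u), hb, hvu]
      rw [hmk, hlam]
      simp only [a]
      module
  rw [← Nat.card_eq_of_bijective f hf, Nat.card_prod, Nat.card_prod, IH V' hB' hm' x hx]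
  have hk := TI_le hB' hm' hx
  have hp := card_perp hB' hx.1
  rw [hm'] at hp
  have : Nat.card {a : V' // ∀ i, B' (x i) a = 0} = Nat.card F ^ (2 * m - k) := by
    refine Nat.eq_of_mul_eq_mul_right (pow_pos (Nat.card_pos (α := F)) k) ?_
    rw [hp, ← pow_add]; congr 1; omega
  rw [this, expo, pow_add, pow_succ]
  ring

end CfsgLib.UnipSp
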